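import Groth.Agent.Lib.Simple20.Twist
import Groth.Agent.Lib.Hilb20.Morph
import Mathlib.Order.PiLex

/-!
# Stable modules have no non-invertible nonzero endomorphisms
-/

set_option autoImplicit false
set_option linter.style.haveILetI false
set_option linter.unusedSectionVars false
set_option maxHeartbeats 1000000
set_option backward.isDefEq.respectTransparency.types false

universe u

open CategoryTheory CategoryTheory.Limits AlgebraicGeometry Polynomial

noncomputable section

namespace GrothLib.Simple20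

variable {k : Type u} [Field k] {X : Scheme.{u}} [X.Over (Spec (CommRingCat.of k))] {N : ℕ}
  (ι : X ⟶ CohB1.ProjSpace N k)

/-- A weighted average is not lexicographically larger than both parts. -/
theorem not_both_lt {n : ℕ} (a b p : Fin n → ℚ) (u v : ℚ) (hu : 0 < u) (hv : 0 < v)
    (hp : ∀ i, (u + v) * p i = u * a i + v * b i) (ha : toLex a < toLex p) : ¬ toLex b < toLex p := by
  intro hb
  obtain ⟨i, hi, hi'⟩ := ha
  obtain ⟨j, hj, hj'⟩ := hb
  simp only [Pi.toLex_apply] at hi hi' hj hj'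
  rcases lt_trichotomy i j with h | rfl | h
  · have := hp i
    rw [hj i h] at this
    nlinarith [this, mul_lt_mul_of_pos_left hi' hu]
  · nlinarith [hp i, mul_lt_mul_of_pos_left hi' hu, mul_lt_mul_of_pos_left hj' hv]
  · have := hp j
    rw [hi j h] at this
    nlinarith [this, mul_lt_mul_of_pos_left hj' hv]

variable [IsProper (X ↘ Spec (CommRingCat.of k))] [IsClosedImmersion ι]

theorem false_of_endomorphism (d ℓ : ℕ) (hℓ : 1 ≤ ℓ) {E : X.Modules} (hE : Coh.IsCoh E)
    (hp : ShStab.IsPure X E d) (P : ℚ[X])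
    (hP : ∀ m : ℤ, (Curv2.euler k X (Pic13.twistOn k ι E m) : ℚ) = P.eval (m : ℚ))
    (hst : ∀ (F : X.Modules) (j : F ⟶ E), Mono j → Coh.IsCoh F → ∀ Q : ℚ[X],
      (∀ m : ℤ, (Curv2.euler k X (Pic13.twistOn k ι F m) : ℚ) = Q.eval (m : ℚ)) →
        0 < Q.coeff d → Q.coeff d < P.coeff d →
          toLex (fun j : Fin ℓ => ((Q).coeff (d - 1 - (j : ℕ)) * (Nat.factorial (d - 1 - (j : ℕ)) : ℚ)) / ((Q).coeff d * (Nat.factorial d : ℚ))) < toLex (fun j : Fin ℓ => ((P).coeff (d - 1 - (j : ℕ)) * (Nat.factorial (d - 1 - (j : ℕ)) : ℚ)) / ((P).coeff d * (Nat.factorial d : ℚ))))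
    (ψ : E ⟶ E) (h0 : ψ ≠ 0) (hni : ¬ IsIso ψ) : False := by
  haveI := Euler.isNoetherian_of_proper (X := X) k
  have hL := isAmple_O1 ι
  have hPE : ShStab.IsHilbPoly k X (O1 ι) E P := fun m => by
    rw [← euler_twistOn_natCast]; exact hP m
  by_cases hm : Mono ψ
  · obtain ⟨hC, hsub, pC, hpC, hadd⟩ := Hilb20.exists_quotient_poly (k := k) hL hE hE ψ hPE hPE
    have hz : pC = 0 := by simpa using hadd
    subst hz
    have : IsZero (cokernel ψ) :=
      Hilb20.isZero_of_isHilbPoly_zero (d := d + 1) hL hC ((Hilb20.isPure_self_dimLT hE hp).mono hsub) hpC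
    haveI : Epi ψ := Preadditive.epi_of_isZero_cokernel ψ this
    exact hni (isIso_of_mono_of_epi ψ)
  · let K := kernel ψ
    let I := cokernel (kernel.ι ψ)
    let j : I ⟶ E := cokernel.desc (kernel.ι ψ) ψ (kernel.condition ψ)
    haveI : Mono j := inferInstanceAs (Mono (Abelian.factorThruCoimage ψ))
    have hK : Coh.IsCoh K := QCoh.isCoh_kernel ψ hE hE
    have hI : Coh.IsCoh I := QCoh.isCoh_cokernel (kernel.ι ψ) hK hE
    have hK0 : ¬ IsZero K := fun h => hm (Preadditive.mono_of_isZero_kernel ψ h)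
    have hI0 : ¬ IsZero I := fun h => h0 (by
      rw [← cokernel.π_desc (kernel.ι ψ) ψ (kernel.condition ψ)]
      exact (congrArg (cokernel.π (kernel.ι ψ) ≫ ·) (h.eq_of_src j 0)).trans comp_zero)
    obtain ⟨pK, hpK, hpK'⟩ := exists_poly_int ι hK
    obtain ⟨pI, hpI, hpI'⟩ := exists_poly_int ι hI
    have hadd : P = pK + pI := by
      obtain ⟨-, -, pC, hpC, hadd⟩ := Hilb20.exists_quotient_poly (k := k) hL hK hE (kernel.ι ψ) hpK hPE
      have : pC = pI := Hilb20.isHilbPoly_unique hpC hpI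
      rwa [← this]
    have hfac : (0 : ℚ) < (Nat.factorial d : ℚ) := Nat.cast_pos.2 (Nat.factorial_pos d)
    have hKd : 0 < pK.coeff d :=
      pos_of_mul_pos_right (Hilb20.alpha_pos_of_pure hL hp (kernel.ι ψ) hK hK0 hpK) hfac.le
    have hId : 0 < pI.coeff d :=
      pos_of_mul_pos_right (Hilb20.alpha_pos_of_pure hL hp j hI hI0 hpI) hfac.le
    have hsum : ∀ i, P.coeff i = pK.coeff i + pI.coeff i := fun i => by rw [hadd, coeff_add]
    refine not_both_lt _ _ _ (pK.coeff d) (pI.coeff d) hKd hId (fun i => ?_)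
      (hst K (kernel.ι ψ) inferInstance hK pK hpK' hKd (by rw [hsum]; linarith))
      (hst I j inferInstance hI pI hpI' hId (by rw [hsum]; linarith))
    rw [hsum, hsum]
    field_simp

end GrothLib.Simple20
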