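import Groth.Agent.Lib.Hilb20.Slope
import Groth.Agent.Lib.CMReg.StructureMain
import Groth.Agent.Lib.Ample.RelAmple
import Groth.Agent.Lib.Ample.Functorial
import Groth.Agent.Lib.OX.TensorAssoc
import Groth.Prelude.Def_Pic13

/-!
# Hilbert polynomials with respect to a projective embedding, for all integer twists
-/

set_option autoImplicit false
set_option linter.style.haveILetI false
set_option linter.unusedSectionVars false
set_option maxHeartbeats 1000000
set_option backward.isDefEq.respectTransparency.types false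

universe u

open CategoryTheory CategoryTheory.Limits AlgebraicGeometry Polynomial

noncomputable section

namespace GrothLib.Simple20

variable {k : Type u} [Field k] {X : Scheme.{u}} [X.Over (Spec (CommRingCat.of k))] {N : ℕ}
  (ι : X ⟶ CohB1.ProjSpace N k)

/-- The restriction of `O(1)`. -/
abbrev O1 : X.Modules := (Scheme.Modules.pullback ι).obj (Twist.twistProjSpace N k 1)

theorem isInvertible_O1 : PicF.IsInvertible (O1 ι) :=
  Ample.isInvertible_pullback ι (CMReg.isInvertible_twist 1)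

theorem isAmple_O1 [IsClosedImmersion ι] : CohB1.IsAmple (O1 ι) :=
  Ample.isAmple_pullback_of_isAffineHom ι (Ample.isAmple_twistProjSpace_one N k)

theorem nonempty_twistOn_twist (F : X.Modules) (m : ℕ) :
    Nonempty (ShStab.twist X (O1 ι) F m ≅ Pic13.twistOn k ι F m) := by
  obtain ⟨a⟩ := Ample.nonempty_pullback_tensorPow ι (CMReg.isInvertible_twist (n := N) (k := k) 1) m
  obtain ⟨b⟩ := GrTilde.nonempty_twist_iso_tensorPow (𝒜 := CohB1.polyGrading N k) CMReg.h1 m
  exact ⟨((DCoh.tensorBi (X := X)).obj F).mapIso (a.symm ≪≫ (Scheme.Modules.pullback ι).mapIso b.symm)⟩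

theorem nonempty_twistOn_add (F : X.Modules) {a b c : ℤ} (h : a + b = c) :
    Nonempty (Pic13.twistOn k ι (Pic13.twistOn k ι F a) b ≅ Pic13.twistOn k ι F c) := by
  obtain ⟨e⟩ := CMReg.nonempty_twist_add (n := N) (k := k) h
  exact ⟨((OX.tensorAssocNatIso.app F).app ((Scheme.Modules.pullback ι).obj (Twist.twistProjSpace N k a))).app
      ((Scheme.Modules.pullback ι).obj (Twist.twistProjSpace N k b)) ≪≫
    ((DCoh.tensorBi (X := X)).obj F).mapIso
      ((OX.pullTensorIso ι _ _).symm ≪≫ (Scheme.Modules.pullback ι).mapIso e)⟩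

theorem euler_twistOn_natCast (F : X.Modules) (m : ℕ) :
    Curv2.euler k X (Pic13.twistOn k ι F m) = Curv2.euler k X (ShStab.twist X (O1 ι) F m) :=
  (Euler.euler_of_iso k (nonempty_twistOn_twist ι F m).some).symm

variable [IsProper (X ↘ Spec (CommRingCat.of k))]

theorem exists_poly_nat {F : X.Modules} (hF : Coh.IsCoh F) :
    ∃ P : ℚ[X], ∀ m : ℕ, (Curv2.euler k X (Pic13.twistOn k ι F m) : ℚ) = P.eval (m : ℚ) := by
  obtain ⟨n, hn⟩ := Hilb20.exists_dimLT (k := k) (CohB1.support F)
  obtain ⟨P, hP, -⟩ := Hilb20.exists_isHilbPoly_of_dimLT (k := k) (isInvertible_O1 ι) hF hn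
  exact ⟨P, fun m => by rw [euler_twistOn_natCast]; exact hP m⟩

theorem isCoh_twistOn [IsLocallyNoetherian X] {F : X.Modules} (hF : Coh.IsCoh F) (t : ℤ) :
    Coh.IsCoh (Pic13.twistOn k ι F t) :=
  CMReg.isCoh_tensorMod hF (Ample.isInvertible_pullback ι (CMReg.isInvertible_twist t))

theorem exists_poly_int {F : X.Modules} (hF : Coh.IsCoh F) :
    ∃ P : ℚ[X], ShStab.IsHilbPoly k X (O1 ι) F P ∧
      ∀ t : ℤ, (Curv2.euler k X (Pic13.twistOn k ι F t) : ℚ) = P.eval (t : ℚ) := by
  haveI := Euler.isNoetherian_of_proper (X := X) k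
  obtain ⟨P, hP⟩ := exists_poly_nat ι hF
  refine ⟨P, fun m => by rw [← euler_twistOn_natCast]; exact hP m, fun t => ?_⟩
  obtain ⟨M, hM⟩ : ∃ M : ℕ, 0 ≤ t + M := ⟨(-t).toNat, by omega⟩
  obtain ⟨PM, hPM⟩ := exists_poly_nat ι (isCoh_twistOn ι hF (-(M : ℤ)))
  have hshift : ∀ a : ℕ, (Curv2.euler k X (Pic13.twistOn k ι F ((a : ℤ) - M)) : ℚ) = PM.eval (a : ℚ) := by
    intro a
    obtain ⟨g⟩ := nonempty_twistOn_add ι F (show -(M : ℤ) + a = (a : ℤ) - M by ring)
    rw [← Euler.euler_of_iso k g]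
    exact hPM a
  have heq : PM = P.comp (Polynomial.X - Polynomial.C (M : ℚ)) := by
    refine Polynomial.eq_of_infinite_eval_eq _ _ (Set.Infinite.mono ?_
      (Set.infinite_range_of_injective (f := fun a : ℕ => ((a + M : ℕ) : ℚ)) fun a b h => by simpa using h))
    rintro _ ⟨a, rfl⟩
    show PM.eval _ = _
    rw [← hshift (a + M), Polynomial.eval_comp, Polynomial.eval_sub, Polynomial.eval_X, Polynomial.eval_C,
      show ((a + M : ℕ) : ℤ) - M = a by push_cast; ring, hP a]
    congr 1
    push_cast; ring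
  have h := hshift (t + M).toNat
  rw [show ((t + M).toNat : ℤ) - M = t by omega, heq, Polynomial.eval_comp, Polynomial.eval_sub, Polynomial.eval_X,
    Polynomial.eval_C] at h
  rw [h]
  congr 1
  rw [show ((t + M).toNat : ℚ) = (((t + M).toNat : ℤ) : ℚ) by push_cast; rfl, Int.toNat_of_nonneg hM]
  push_cast; ring

end GrothLib.Simple20
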